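import Cfsg.Agent.H183.BndTwo

/-!
# Coverage of classes of primes: sharp pigeonhole (helper406, for S3451)

* `Cov m S` : if no `c + 1` members of a set `E` of primes `> 31` dividing `|S|` divide the order of one element, then
  `|E| ≤ m c + 1`; `Cov0` : the version `|E| ≤ m c`;
* `card_le_of_two` : characteristic two.
-/

set_option autoImplicit false
set_option linter.unusedSectionVars false

namespace Cfsg.Agent.H406.DP

open Cfsg Cfsg.Agent.H370.DP Cfsg.Agent.H183.BndTwo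

/-- sharp coverage by `m` classes and one prime -/
def Cov (m : ℕ) (S : Type*) [Group S] : Prop := ∀ (c : ℕ) (E : Finset ℕ),
  (∀ r ∈ E, r.Prime ∧ 31 < r ∧ r ∣ Nat.card S) → (∀ T ⊆ E, Ind S T → T.card ≤ c) → E.card ≤ m * c + 1

/-- sharp coverage by `m` classes -/
def Cov0 (m : ℕ) (S : Type*) [Group S] : Prop := ∀ (c : ℕ) (E : Finset ℕ),
  (∀ r ∈ E, r.Prime ∧ 31 < r ∧ r ∣ Nat.card S) → (∀ T ⊆ E, Ind S T → T.card ≤ c) → E.card ≤ m * c

theorem Cov0.congr {S S' : Type*} [Group S] [Group S'] (e : S ≃* S') {m : ℕ} (h : Cov0 m S) : Cov0 m S' :=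
  fun c E h1 h2 => h c E (fun r hr => by rw [Nat.card_congr e.toEquiv]; exact h1 r hr)
    fun T hT hI => h2 T hT (hI.congr e)

theorem Cov.congr {S S' : Type*} [Group S] [Group S'] (e : S ≃* S') {m : ℕ} (h : Cov m S) : Cov m S' :=
  fun c E h1 h2 => h c E (fun r hr => by rw [Nat.card_congr e.toEquiv]; exact h1 r hr)
    fun T hT hI => h2 T hT (hI.congr e)

/-- **Pigeonhole.** -/
theorem card_le_of_classes {S : Type*} [Group S] {m : ℕ} {P : Fin m → ℕ → Prop} {c : ℕ} {E : Finset ℕ}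
    (hE : ∀ r ∈ E, r.Prime ∧ 31 < r ∧ ∃ i, P i r)
    (hj : ∀ (i : Fin m) (T : Finset ℕ), (∀ r ∈ T, r.Prime ∧ 31 < r ∧ P i r) → Ind S T)
    (hc : ∀ T ⊆ E, Ind S T → T.card ≤ c) : E.card ≤ m * c := by
  classical
  have h1 : ∀ i, (E.filter (P i)).card ≤ c := fun i =>
    hc _ (Finset.filter_subset _ _) (hj i _ fun r hr => by
      rw [Finset.mem_filter] at hr
      exact ⟨(hE r hr.1).1, (hE r hr.1).2.1, hr.2⟩)
  have h2 : E ⊆ Finset.univ.biUnion (fun i => E.filter (P i)) := by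
    intro r hr
    obtain ⟨i, hi⟩ := (hE r hr).2.2
    exact Finset.mem_biUnion.2 ⟨i, Finset.mem_univ _, Finset.mem_filter.2 ⟨hr, hi⟩⟩
  refine (Finset.card_le_card h2).trans (Finset.card_biUnion_le.trans ?_)
  refine (Finset.sum_le_card_nsmul _ _ c (fun i _ => h1 i)).trans ?_
  rw [Finset.card_univ, Fintype.card_fin, smul_eq_mul]

theorem cov0_of_classes {S : Type*} [Group S] {m : ℕ} (P : Fin m → ℕ → Prop)
    (hcov : ∀ r : ℕ, r.Prime → 31 < r → r ∣ Nat.card S → ∃ i, P i r)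
    (hj : ∀ (i : Fin m) (T : Finset ℕ), (∀ r ∈ T, r.Prime ∧ 31 < r ∧ P i r) → Ind S T) : Cov0 m S :=
  fun _ _ hE hc => card_le_of_classes (fun r hr => ⟨(hE r hr).1, (hE r hr).2.1,
    hcov r (hE r hr).1 (hE r hr).2.1 (hE r hr).2.2⟩) hj hc

theorem cov_of_classes {S : Type*} [Group S] {m : ℕ} (p : ℕ) (P : Fin m → ℕ → Prop)
    (hcov : ∀ r : ℕ, r.Prime → 31 < r → r ∣ Nat.card S → r = p ∨ ∃ i, P i r)
    (hj : ∀ (i : Fin m) (T : Finset ℕ), (∀ r ∈ T, r.Prime ∧ 31 < r ∧ P i r) → Ind S T) : Cov m S := by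
  classical
  intro c E hE hc
  have h1 : (E.erase p).card ≤ m * c := card_le_of_classes (P := P) (fun r hr => by
    rw [Finset.mem_erase] at hr
    obtain ⟨h2, h3, h4⟩ := hE r hr.2
    exact ⟨h2, h3, (hcov r h2 h3 h4).resolve_left hr.1⟩) hj
    fun T hT hI => hc T (hT.trans (Finset.erase_subset _ _)) hI
  have h2 := Finset.pred_card_le_card_erase (s := E) (a := p)
  omega

/-- if the exceptional prime is at most 31 -/
theorem cov0_of_small {S : Type*} [Group S] {m : ℕ} {p : ℕ} (hp : p ≤ 31) (P : Fin m → ℕ → Prop)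
    (hcov : ∀ r : ℕ, r.Prime → 31 < r → r ∣ Nat.card S → r = p ∨ ∃ i, P i r)
    (hj : ∀ (i : Fin m) (T : Finset ℕ), (∀ r ∈ T, r.Prime ∧ 31 < r ∧ P i r) → Ind S T) : Cov0 m S :=
  cov0_of_classes P (fun r hr h31 hd => (hcov r hr h31 hd).resolve_left (by omega)) hj

/-- the version with a class function -/
theorem cov_of_fun {S : Type*} [Group S] (p : ℕ) (f : ℕ → ℕ) (K : Finset ℕ)
    (h1 : ∀ r : ℕ, r.Prime → 31 < r → r ∣ Nat.card S → r = p ∨ f r ∈ K)
    (h2 : ∀ e ∈ K, ∀ T : Finset ℕ, (∀ r ∈ T, r.Prime ∧ 31 < r ∧ f r = e) → Ind S T) : Cov K.card S := by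
  refine cov_of_classes p (fun (i : Fin K.card) r => f r = K.equivFin.symm i) ?_ ?_
  · intro r hr h31 hd
    rcases h1 r hr h31 hd with h | h
    · exact Or.inl h
    · exact Or.inr ⟨K.equivFin ⟨_, h⟩, by rw [Equiv.symm_apply_apply]⟩
  · intro i T hT
    exact h2 _ (K.equivFin.symm i).2 T hT

/-- **Characteristic two.** `K` = the possible orders of `2 ^ f` modulo the odd primes dividing `|S|`, `f * e ≤ n` for
`e ∈ K`: at most `|K|` different indices `> n / 2`. -/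
theorem card_le_of_two {n f : ℕ} (hf : 0 < f) {E K : Finset ℕ} (hK : ∀ e ∈ K, 0 < e ∧ f * e ≤ n)
    (hE : ∀ r ∈ E, orderOf (((2 ^ f : ℕ)) : ZMod r) ∈ K) (hi : ∀ r ∈ E, n < 2 * orderOf (2 : ZMod r))
    (hinj : Set.InjOn (fun r => orderOf (2 : ZMod r)) (E : Set ℕ)) : E.card ≤ K.card := by
  have key : ∀ r ∈ E, orderOf (2 : ZMod r) = f * orderOf (((2 ^ f : ℕ)) : ZMod r) := by
    intro r hr
    obtain ⟨h1, h2⟩ := hK _ (hE r hr)
    have h3 : orderOf (2 : ZMod r) ∣ f * orderOf (((2 ^ f : ℕ)) : ZMod r) := by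
      rw [orderOf_dvd_iff_pow_eq_one, pow_mul]
      have h4 := pow_orderOf_eq_one (((2 ^ f : ℕ)) : ZMod r)
      push_cast at h4 ⊢
      exact h4
    exact (eq_of (hi r hr) h3 h2 (Nat.mul_pos hf h1)).symm
  refine Finset.card_le_card_of_injOn (fun r => orderOf (((2 ^ f : ℕ)) : ZMod r)) (fun r hr => hE r hr) ?_
  intro r hr s hs hrs
  refine hinj hr hs ?_
  have h1 : orderOf (((2 ^ f : ℕ)) : ZMod r) = orderOf (((2 ^ f : ℕ)) : ZMod s) := hrs
  show orderOf (2 : ZMod r) = orderOf (2 : ZMod s)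
  rw [key r hr, key s hs, h1]

/-- primes of large index are larger than 31 -/
theorem lt_of_ord {n r : ℕ} (hn : 64 ≤ n) (hr : r.Prime) (hi : n < 2 * orderOf (2 : ZMod r)) : 31 < r := by
  have h2 : r ≠ 2 := by
    rintro rfl
    have h3 : (2 : ZMod 2) = 0 := by decide
    rw [h3, orderOf_eq_zero_iff'.2 (fun k hk => by rw [zero_pow (by omega)]; decide)] at hi
    omega
  have hf : Fact r.Prime := ⟨hr⟩
  have h4 : (2 : ZMod r) ≠ 0 := by
    intro h5
    have h6 : ((2 : ℕ) : ZMod r) = 0 := by exact_mod_cast h5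
    rw [ZMod.natCast_eq_zero_iff] at h6
    exact h2 ((Nat.prime_dvd_prime_iff_eq hr Nat.prime_two).1 h6)
  have h5 := Nat.le_of_dvd (by have := hr.two_le; omega) (ZMod.orderOf_dvd_card_sub_one h4)
  omega

end Cfsg.Agent.H406.DP
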