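import Cfsg.Agent.H733.ExcE78
import Cfsg.Agent.H406.DP.Row

/-!
# Rows of the coverage table: `E₇(q)`, `E₈(q)` (helper406, for S3451)
-/

set_option autoImplicit false
set_option linter.unusedSectionVars false

namespace Cfsg.Agent.H406.DP

open Cfsg Cfsg.Lie Cfsg.Agent.H370.DP Cfsg.Agent.H733.ExcCore Cfsg.Agent.H733.ExcE78
open Cfsg.Agent.H378.ExcAdj Cfsg.Agent.H378.CycTab Cfsg.Agent.H493.PGTorus Cfsg.Agent.H129.WData
  Cfsg.Agent.H129.TorusChar Cfsg.Agent.H378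
open Cfsg.Agent.ChevalleyStructure.CoxeterGeomTypes Cfsg.Agent.Nodes.RGDChev Cfsg.Agent.BpExc.RowsUntw
  Cfsg.Agent.BpExc.FamInst
open Cfsg.Agent.H183.BndTwo

universe u

theorem cov_E7 (F : Type u) [Field F] [Finite F] : Cov 13 ↥(chevE7.group F) := by
  let cs : CoxeterSystem CoxeterMatrix.E₇ CoxeterMatrix.E₇.Group := CoxeterMatrix.E₇.toCoxeterSystem
  have := finite_W e7T cs
  have hcd : ({1, 2, 3, 4, 5, 6, 7, 8, 9, 10, 12, 14, 18} : Finset ℕ).card = 13 := by decide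
  rw [← hcd]
  refine cov_of_fun (Nat.card F).minFac (fun r => od (Nat.card F) r) _ ?_ ?_
  · intro r hr _ hd
    rcases od_E7 hr hd with h | h
    · exact Or.inl (eq_minFac F hr h)
    · right
      simp only [Finset.mem_insert, Finset.mem_singleton]
      exact h
  · intro m hm T hT
    have hT' : ∀ r ∈ T, r.Prime ∧ ¬ r ∣ 2 ∧ od (Nat.card F) r = m := fun r hr =>
      ⟨(hT r hr).1, not_dvd_small (hT r hr).2.1 (by norm_num) (by norm_num), (hT r hr).2.2⟩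
    simp only [Finset.mem_insert, Finset.mem_singleton] at hm
    rcases hm with rfl | rfl | rfl | rfl | rfl | rfl | rfl | rfl | rfl | rfl | rfl | rfl | rfl
    · exact joint_of_chain e7T cs inv_E7 two_ne_zero AdjE7.hA (L := []) trivial (eig1 7)
        fun r hr => ⟨(hT' r hr).1, (hT' r hr).2.1, dvd1 (hT' r hr).2.2⟩
    · exact joint_of_chain e7T cs inv_E7 two_ne_zero AdjE7.hA AdjE7.row2.1 AdjE7.row2.2.2
        fun r hr => ⟨(hT' r hr).1, (hT' r hr).2.1, dvd2 (hT' r hr).1 (hT' r hr).2.2⟩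
    · exact joint_of_chain e7T cs inv_E7 two_ne_zero AdjE7.hA AdjE7.row3.1 AdjE7.row3.2.2
        fun r hr => ⟨(hT' r hr).1, (hT' r hr).2.1, dvd3 (hT' r hr).1 (hT' r hr).2.2⟩
    · exact joint_of_chain e7T cs inv_E7 two_ne_zero AdjE7.hA AdjE7.row4.1 AdjE7.row4.2.2
        fun r hr => ⟨(hT' r hr).1, (hT' r hr).2.1, dvd4 (hT' r hr).1 (hT' r hr).2.2⟩
    · exact joint_of_chain e7T cs inv_E7 two_ne_zero AdjE7.hA AdjE7.row5.1 AdjE7.row5.2.2
        fun r hr => ⟨(hT' r hr).1, (hT' r hr).2.1, dvd5 (hT' r hr).1 (hT' r hr).2.2⟩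
    · exact joint_of_chain e7T cs inv_E7 two_ne_zero AdjE7.hA AdjE7.row6.1 AdjE7.row6.2.2
        fun r hr => ⟨(hT' r hr).1, (hT' r hr).2.1, dvd6 (hT' r hr).1 (hT' r hr).2.2⟩
    · exact joint_of_chain e7T cs inv_E7 two_ne_zero AdjE7.hA AdjE7.chain7 AdjE7.tor7_7
        fun r hr => ⟨(hT' r hr).1, (hT' r hr).2.1, dvd7 (hT' r hr).1 (hT' r hr).2.2⟩
    · exact joint_of_chain e7T cs inv_E7 two_ne_zero AdjE7.hA AdjE7.row8.1 AdjE7.row8.2.2
        fun r hr => ⟨(hT' r hr).1, (hT' r hr).2.1, dvd8 (hT' r hr).1 (hT' r hr).2.2⟩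
    · exact joint_of_chain e7T cs inv_E7 two_ne_zero AdjE7.hA AdjE7.chain9 AdjE7.tor9_9
        fun r hr => ⟨(hT' r hr).1, (hT' r hr).2.1, dvd9 (hT' r hr).1 (hT' r hr).2.2⟩
    · exact joint_of_chain e7T cs inv_E7 two_ne_zero AdjE7.hA AdjE7.row10.1 AdjE7.row10.2.2
        fun r hr => ⟨(hT' r hr).1, (hT' r hr).2.1, dvd10 (hT' r hr).1 (hT' r hr).2.2⟩
    · exact joint_of_chain e7T cs inv_E7 two_ne_zero AdjE7.hA AdjE7.chain12 AdjE7.tor12_12
        fun r hr => ⟨(hT' r hr).1, (hT' r hr).2.1, dvd12 (hT' r hr).1 (hT' r hr).2.2⟩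
    · exact joint_of_chain e7T cs inv_E7 two_ne_zero AdjE7.hA AdjE7.chain14 AdjE7.tor14_14
        fun r hr => ⟨(hT' r hr).1, (hT' r hr).2.1, dvd14 (hT' r hr).1 (hT' r hr).2.2⟩
    · exact joint_of_chain e7T cs inv_E7 two_ne_zero AdjE7.hA AdjE7.chain18 AdjE7.tor18_18
        fun r hr => ⟨(hT' r hr).1, (hT' r hr).2.1, dvd18 (hT' r hr).1 (hT' r hr).2.2⟩

theorem cov_E8 (F : Type u) [Field F] [Finite F] : Cov 17 ↥(chevE8.group F) := by
  let cs : CoxeterSystem CoxeterMatrix.E₈ CoxeterMatrix.E₈.Group := CoxeterMatrix.E₈.toCoxeterSystem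
  have := finite_W e8T cs
  have hcd : ({1, 2, 3, 4, 5, 6, 7, 8, 9, 10, 12, 14, 15, 18, 20, 24, 30} : Finset ℕ).card = 17 := by decide
  rw [← hcd]
  refine cov_of_fun (Nat.card F).minFac (fun r => od (Nat.card F) r) _ ?_ ?_
  · intro r hr _ hd
    rcases od_E8 hr hd with h | h
    · exact Or.inl (eq_minFac F hr h)
    · right
      simp only [Finset.mem_insert, Finset.mem_singleton]
      exact h
  · intro m hm T hT
    have hT' : ∀ r ∈ T, r.Prime ∧ ¬ r ∣ 1 ∧ od (Nat.card F) r = m := fun r hr =>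
      ⟨(hT r hr).1, not_dvd_small (hT r hr).2.1 (by norm_num) (by norm_num), (hT r hr).2.2⟩
    simp only [Finset.mem_insert, Finset.mem_singleton] at hm
    rcases hm with rfl | rfl | rfl | rfl | rfl | rfl | rfl | rfl | rfl | rfl | rfl | rfl | rfl | rfl | rfl | rfl | rfl
    · exact joint_of_chain e8T cs inv_E8 one_ne_zero AdjE8.hA (L := []) trivial (eig1 8)
        fun r hr => ⟨(hT' r hr).1, (hT' r hr).2.1, dvd1 (hT' r hr).2.2⟩
    · exact joint_of_chain e8T cs inv_E8 one_ne_zero AdjE8.hA AdjE8.row2.1 AdjE8.row2.2.2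
        fun r hr => ⟨(hT' r hr).1, (hT' r hr).2.1, dvd2 (hT' r hr).1 (hT' r hr).2.2⟩
    · exact joint_of_chain e8T cs inv_E8 one_ne_zero AdjE8.hA AdjE8.row3.1 AdjE8.row3.2.2
        fun r hr => ⟨(hT' r hr).1, (hT' r hr).2.1, dvd3 (hT' r hr).1 (hT' r hr).2.2⟩
    · exact joint_of_chain e8T cs inv_E8 one_ne_zero AdjE8.hA AdjE8.row4.1 AdjE8.row4.2.2
        fun r hr => ⟨(hT' r hr).1, (hT' r hr).2.1, dvd4 (hT' r hr).1 (hT' r hr).2.2⟩
    · exact joint_of_chain e8T cs inv_E8 one_ne_zero AdjE8.hA AdjE8.row5.1 AdjE8.row5.2.2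
        fun r hr => ⟨(hT' r hr).1, (hT' r hr).2.1, dvd5 (hT' r hr).1 (hT' r hr).2.2⟩
    · exact joint_of_chain e8T cs inv_E8 one_ne_zero AdjE8.hA AdjE8.row6.1 AdjE8.row6.2.2
        fun r hr => ⟨(hT' r hr).1, (hT' r hr).2.1, dvd6 (hT' r hr).1 (hT' r hr).2.2⟩
    · exact joint_of_chain e8T cs inv_E8 one_ne_zero AdjE8.hA AdjE8.row7.1 AdjE8.row7.2.2
        fun r hr => ⟨(hT' r hr).1, (hT' r hr).2.1, dvd7 (hT' r hr).1 (hT' r hr).2.2⟩
    · exact joint_of_chain e8T cs inv_E8 one_ne_zero AdjE8.hA AdjE8.row8.1 AdjE8.row8.2.2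
        fun r hr => ⟨(hT' r hr).1, (hT' r hr).2.1, dvd8 (hT' r hr).1 (hT' r hr).2.2⟩
    · exact joint_of_chain e8T cs inv_E8 one_ne_zero AdjE8.hA AdjE8.row9.1 AdjE8.row9.2.2
        fun r hr => ⟨(hT' r hr).1, (hT' r hr).2.1, dvd9 (hT' r hr).1 (hT' r hr).2.2⟩
    · exact joint_of_chain e8T cs inv_E8 one_ne_zero AdjE8.hA AdjE8.row10.1 AdjE8.row10.2.2
        fun r hr => ⟨(hT' r hr).1, (hT' r hr).2.1, dvd10 (hT' r hr).1 (hT' r hr).2.2⟩
    · exact joint_of_chain e8T cs inv_E8 one_ne_zero AdjE8.hA AdjE8.row12.1 AdjE8.row12.2.2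
        fun r hr => ⟨(hT' r hr).1, (hT' r hr).2.1, dvd12 (hT' r hr).1 (hT' r hr).2.2⟩
    · exact joint_of_chain e8T cs inv_E8 one_ne_zero AdjE8.hA AdjE8.row14.1 AdjE8.row14.2.2
        fun r hr => ⟨(hT' r hr).1, (hT' r hr).2.1, dvd14 (hT' r hr).1 (hT' r hr).2.2⟩
    · exact joint_of_chain e8T cs inv_E8 one_ne_zero AdjE8.hA AdjE8.chain15 AdjE8.tor15_15
        fun r hr => ⟨(hT' r hr).1, (hT' r hr).2.1, dvd15 (hT' r hr).1 (hT' r hr).2.2⟩
    · exact joint_of_chain e8T cs inv_E8 one_ne_zero AdjE8.hA AdjE8.row18.1 AdjE8.row18.2.2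
        fun r hr => ⟨(hT' r hr).1, (hT' r hr).2.1, dvd18 (hT' r hr).1 (hT' r hr).2.2⟩
    · exact joint_of_chain e8T cs inv_E8 one_ne_zero AdjE8.hA AdjE8.chain20 AdjE8.tor20_20
        fun r hr => ⟨(hT' r hr).1, (hT' r hr).2.1, dvd20 (hT' r hr).1 (hT' r hr).2.2⟩
    · exact joint_of_chain e8T cs inv_E8 one_ne_zero AdjE8.hA AdjE8.chain24 AdjE8.tor24_24
        fun r hr => ⟨(hT' r hr).1, (hT' r hr).2.1, dvd24 (hT' r hr).1 (hT' r hr).2.2⟩
    · exact joint_of_chain e8T cs inv_E8 one_ne_zero AdjE8.hA AdjE8.chain30 AdjE8.tor30_30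
        fun r hr => ⟨(hT' r hr).1, (hT' r hr).2.1, dvd30 (hT' r hr).1 (hT' r hr).2.2⟩

/-- a prime larger than `d` dividing `gcd(d, x) * N` divides `N` -/
theorem dvd_of_gcd' {r d x N : ℕ} (hr : r.Prime) (hd : 0 < d) (hdr : d < r) (h : r ∣ Nat.gcd d x * N) : r ∣ N :=
  (hr.dvd_mul.1 h).resolve_left fun h => by
    have := Nat.le_of_dvd hd (h.trans (Nat.gcd_dvd_left _ _))
    omega

theorem ord_dvd_of' {r f a : ℕ} (h : r ∣ (2 ^ f) ^ a - 1) : orderOf (2 : ZMod r) ∣ f * a := by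
  rw [ord_dvd_iff, pow_mul]
  exact h

theorem dvd_of_ord' {r f a : ℕ} (h : orderOf (2 : ZMod r) = f * a) : r ∣ (2 ^ f) ^ a - 1 := by
  rw [← pow_mul, ← ord_dvd_iff, h]

theorem two_E7 (F : Type u) [Field F] [Finite F] {f : ℕ} (hf : 0 < f) (hF : 2 ^ f = Nat.card F) {n : ℕ}
    (hn : 64 ≤ n) (hB : Bnd n ↥(chevE7.group F)) : Row n ↥(chevE7.group F) := by
  have : Fintype F := Fintype.ofFinite F
  have hc := Cfsg.Agent.S1064.result (F := F) Nat.card_eq_fintype_card.symm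
  rw [← hF] at hc
  have hmax : f * 18 ≤ n := le_of hn hB (by omega) fun s hs hs2 ho => by
    refine dvd_of_gcd' hs (by norm_num) ?_ (hc ▸ Dvd.dvd.mul_left (dvd_of_ord' ho) _)
    have := hs.two_le
    omega
  refine row_of_deg hf hn (K := {2, 6, 8, 10, 12, 14, 18}) ?_ (by decide) ?_
  · intro a ha
    have h1 : 0 < a ∧ a ≤ 18 := by
      simp only [Finset.mem_insert, Finset.mem_singleton] at ha
      omega
    exact ⟨h1.1, (Nat.mul_le_mul_left f h1.2).trans hmax⟩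
  · intro r hr hr2 hrG
    have h1 := (hrG.mul_left (Nat.gcd 2 (2 ^ f - 1)))
    rw [hc] at h1
    simp only [hr.dvd_mul] at h1
    have h0 : ¬ r ∣ (2 ^ f) ^ 63 := by
      rw [← pow_mul]; exact not_dvd_two_pow hr hr2
    rcases h1 with (((((((h | h) | h) | h) | h) | h) | h) | h)
    · exact absurd h h0
    · exact ⟨2, by decide, ord_dvd_of' h⟩
    · exact ⟨6, by decide, ord_dvd_of' h⟩
    · exact ⟨8, by decide, ord_dvd_of' h⟩
    · exact ⟨10, by decide, ord_dvd_of' h⟩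
    · exact ⟨12, by decide, ord_dvd_of' h⟩
    · exact ⟨14, by decide, ord_dvd_of' h⟩
    · exact ⟨18, by decide, ord_dvd_of' h⟩

theorem two_E8 (F : Type u) [Field F] [Finite F] {f : ℕ} (hf : 0 < f) (hF : 2 ^ f = Nat.card F) {n : ℕ}
    (hn : 64 ≤ n) (hB : Bnd n ↥(chevE8.group F)) : Row n ↥(chevE8.group F) := by
  have : Fintype F := Fintype.ofFinite F
  have hc := Cfsg.Agent.S1065.result (F := F) Nat.card_eq_fintype_card.symm
  rw [← hF] at hc
  have hmax : f * 30 ≤ n := le_of hn hB (by omega) fun s hs hs2 ho =>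
    hc ▸ Dvd.dvd.mul_left (dvd_of_ord' ho) _
  refine row_of_deg hf hn (K := {2, 8, 12, 14, 18, 20, 24, 30}) ?_ (by decide) ?_
  · intro a ha
    have h1 : 0 < a ∧ a ≤ 30 := by
      simp only [Finset.mem_insert, Finset.mem_singleton] at ha
      omega
    exact ⟨h1.1, (Nat.mul_le_mul_left f h1.2).trans hmax⟩
  · intro r hr hr2 hrG
    have h1 := hrG
    rw [hc] at h1
    simp only [hr.dvd_mul] at h1
    have h0 : ¬ r ∣ (2 ^ f) ^ 120 := by
      rw [← pow_mul]; exact not_dvd_two_pow hr hr2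
    rcases h1 with ((((((((h | h) | h) | h) | h) | h) | h) | h) | h)
    · exact absurd h h0
    · exact ⟨2, by decide, ord_dvd_of' h⟩
    · exact ⟨8, by decide, ord_dvd_of' h⟩
    · exact ⟨12, by decide, ord_dvd_of' h⟩
    · exact ⟨14, by decide, ord_dvd_of' h⟩
    · exact ⟨18, by decide, ord_dvd_of' h⟩
    · exact ⟨20, by decide, ord_dvd_of' h⟩
    · exact ⟨24, by decide, ord_dvd_of' h⟩
    · exact ⟨30, by decide, ord_dvd_of' h⟩

theorem row_E7 (F : Type u) [Field F] [Finite F] {n : ℕ} (hn : n = 64 ∨ 128 ≤ n) (hB : Bnd n ↥(chevE7.group F)) :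
    Row n ↥(chevE7.group F) := by
  have : Fintype F := Fintype.ofFinite F
  obtain ⟨p, f, hp, hf, hpn⟩ := FiniteField.isPrimePow_card F
  rw [← Nat.card_eq_fintype_card] at hpn
  have hp := hp.nat_prime
  have h64 : 64 ≤ n := by omega
  by_cases hn' : 128 ≤ n
  · exact row_of_cov (cov_E7 F) h64 (Or.inr ⟨by norm_num, hn'⟩)
  have hn64 : n = 64 := by omega
  subst hn64
  by_cases hp2 : p = 2
  · subst hp2
    exact two_E7 F hf hpn h64 hB
  exfalso
  have hc := Cfsg.Agent.S1064.result (F := F) Nat.card_eq_fintype_card.symm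
  rw [← hpn] at hc
  by_cases hp3 : p = 3
  · subst hp3
    refine false_of_kill_three hB (dvd_of_gcd' (d := 2) (x := 3 ^ f - 1) kill_three.1 (by norm_num) (by norm_num) ?_)
    rw [hc]
    exact Dvd.dvd.mul_left (dvd_three f 18 ⟨2, rfl⟩) _
  refine false_of_kill hB hp hp2 hp3 (f := f) (dvd_of_gcd' (d := 2) (x := p ^ f - 1) hp (by norm_num) ?_ ?_)
    fun r hr hr3 hd => dvd_of_gcd' (d := 2) (x := p ^ f - 1) hr (by norm_num) (by omega) ?_
  · have := hp.two_le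
    omega
  · rw [hc]
    refine Dvd.dvd.mul_right (Dvd.dvd.mul_right (Dvd.dvd.mul_right (Dvd.dvd.mul_right (Dvd.dvd.mul_right
        (Dvd.dvd.mul_right (Dvd.dvd.mul_right ?_ _) _) _) _) _) _) _
    exact (dvd_pow_self p hf.ne').trans (dvd_pow_self _ (by norm_num))
  · rw [hc]
    rcases hd with hd | hd
    · exact Dvd.dvd.mul_right (Dvd.dvd.mul_right (Dvd.dvd.mul_right (Dvd.dvd.mul_right (Dvd.dvd.mul_left hd _) _) _) _) _
    · exact Dvd.dvd.mul_right (Dvd.dvd.mul_right (Dvd.dvd.mul_left hd _) _) _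

theorem row_E8 (F : Type u) [Field F] [Finite F] {n : ℕ} (hn : n = 64 ∨ 128 ≤ n) (hB : Bnd n ↥(chevE8.group F)) :
    Row n ↥(chevE8.group F) := by
  have : Fintype F := Fintype.ofFinite F
  obtain ⟨p, f, hp, hf, hpn⟩ := FiniteField.isPrimePow_card F
  rw [← Nat.card_eq_fintype_card] at hpn
  have hp := hp.nat_prime
  have h64 : 64 ≤ n := by omega
  by_cases hn' : 128 ≤ n
  · exact row_of_cov (cov_E8 F) h64 (Or.inr ⟨by norm_num, hn'⟩)
  have hn64 : n = 64 := by omega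
  subst hn64
  by_cases hp2 : p = 2
  · subst hp2
    exact two_E8 F hf hpn h64 hB
  exfalso
  have hc := Cfsg.Agent.S1065.result (F := F) Nat.card_eq_fintype_card.symm
  rw [← hpn] at hc
  by_cases hp3 : p = 3
  · subst hp3
    refine false_of_kill_three hB ?_
    rw [hc]
    exact Dvd.dvd.mul_right (Dvd.dvd.mul_right (Dvd.dvd.mul_right (Dvd.dvd.mul_left (dvd_three f 18 ⟨2, rfl⟩) _) _) _) _
  refine false_of_kill hB hp hp2 hp3 (f := f) ?_ fun r hr hr3 hd => ?_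
  · rw [hc]
    refine Dvd.dvd.mul_right (Dvd.dvd.mul_right (Dvd.dvd.mul_right (Dvd.dvd.mul_right (Dvd.dvd.mul_right
        (Dvd.dvd.mul_right (Dvd.dvd.mul_right (Dvd.dvd.mul_right ?_ _) _) _) _) _) _) _) _
    exact (dvd_pow_self p hf.ne').trans (dvd_pow_self _ (by norm_num))
  · rw [hc]
    rcases hd with hd | hd
    · exact Dvd.dvd.mul_right (Dvd.dvd.mul_right (Dvd.dvd.mul_right (Dvd.dvd.mul_right (Dvd.dvd.mul_right
        (Dvd.dvd.mul_right (Dvd.dvd.mul_left hd _) _) _) _) _) _) _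
    · exact Dvd.dvd.mul_right (Dvd.dvd.mul_right (Dvd.dvd.mul_right (Dvd.dvd.mul_right (Dvd.dvd.mul_right
        (Dvd.dvd.mul_left hd _) _) _) _) _) _

theorem row_e7 {S : Type*} [Group S] (h : Lie.IsoE7 S) {n : ℕ} (hn : n = 64 ∨ 128 ≤ n) (hB : Bnd n S) : Row n S := by
  obtain ⟨F, _, _, ⟨e⟩⟩ := h
  exact (row_E7 F hn (bnd_congr e hB)).congr e.symm

theorem row_e8 {S : Type*} [Group S] (h : Lie.IsoE8 S) {n : ℕ} (hn : n = 64 ∨ 128 ≤ n) (hB : Bnd n S) : Row n S := by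
  obtain ⟨F, _, _, ⟨e⟩⟩ := h
  exact (row_E8 F hn (bnd_congr e hB)).congr e.symm

end Cfsg.Agent.H406.DP
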