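import Cfsg.Agent.H406.DP.TwJoint
import Cfsg.Agent.H406.DP.Row

/-!
# Rows of the coverage table: twisted exceptional groups (helper406, for S3451)
-/

set_option autoImplicit false
set_option linter.unusedSectionVars false

namespace Cfsg.Agent.H406.DP

open Cfsg Cfsg.Lie Cfsg.Lie.ChevalleyDatum Cfsg.Agent.H370.DP
open Cfsg.Agent.H129 Cfsg.Agent.H129.WData
open Cfsg.Agent.ChevalleyStructure Cfsg.Agent.ChevalleyStructure.CoxeterGeom
  Cfsg.Agent.ChevalleyStructure.CoxeterGeomTypes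
open Cfsg.Agent.Tits.Roots Cfsg.Agent.Nodes Cfsg.Agent.Nodes.Reps Cfsg.Agent.Nodes.RGDChev
  Cfsg.Agent.H129.TorusUntw Cfsg.Agent.BpExc.TowChev Cfsg.Agent.BpExc.Tow
open Cfsg.Agent.H493 Cfsg.Agent.H493.PGTorus Cfsg.Agent.H493.PGCyc
open Cfsg.Agent.H559.ExcJoint

universe u

/-! ### `²E₆(q)` -/

section TwE6

open Cfsg.Agent.H493.PGE6T Cfsg.Agent.H493.TwE6Alg

variable {K : Type u} [Field K] [Fintype K] {q : ℕ} (hq : IsPrimePow q) (hK : Fintype.card K = q ^ 2)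

include hq hK

theorem joint2_2E6 {L : List (Fin 6 × Mat 6)} (hL : ChainOK PGE6T.Am L) {Th : Mat 6} (hTh : ∀ j, hd L (pi j) = Th j)
    {f : ℕ} {c : Fin (f + 1) → ℤ} {V : Fin (f + 1) → Fin 6 → ℤ} {U : Fin 6 → ℤ}
    (h : EigOK (fun i j => Th j i) c V U) (hc : c 0 = 1 ∨ c 0 = -1)
    {f' : ℕ} {c' : Fin (f' + 1) → ℤ} {V' : Fin (f' + 1) → Fin 6 → ℤ} {U' : Fin 6 → ℤ}
    (h' : EigOK (fun i j => Th j i) c' V' U') (hc' : c' 0 = 1 ∨ c' 0 = -1) {T : Finset ℕ}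
    (hT : ∀ r ∈ T, r.Prime ∧ 31 < r ∧ ((r : ℤ) ∣ pv c q ∨ (r : ℤ) ∣ pv c' q)) :
    ∃ x : ↥(twistedE6 K q), ∀ r ∈ T, r ∣ orderOf x := by
  have := PGE6.finW
  obtain ⟨p, e, hpF, hpk, he, hqe, hk⟩ := PGE6T.setup hq hK
  have hqe' : (q : ℤ) = ((p ^ e : ℕ) : ℤ) := by rw [hqe]
  exact joint_tw2 RGDTwE6.hp CoxeterMatrix.E₆.toCoxeterSystem hk he isFrob_tau (fr_tau _)
    TorusChar.invC_E6 (by norm_num) (e0 := embT (algebraMap K (AlgebraicClosure K)) q) (d := Nat.gcd 3 (q + 1))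
    (fun y hy => tau_pow _ hqe hq hK hy) (PGE6T.lin _ hL hTh) h hc h' hc'
    (fun r hr => ⟨(hT r hr).1, not_dvd_of_lt (hT r hr).2.1 (Nat.gcd_pos_of_pos_left _ (by norm_num))
      ((Nat.gcd_le_left _ (by norm_num)).trans (by norm_num)), by rw [← hqe']; exact (hT r hr).2.2⟩)

/-- seven classes and the characteristic -/
theorem classes_2E6 {p n : ℕ} (hp : p.Prime) (hpn : p ^ n = q) : ∃ P : Fin 7 → ℕ → Prop,
    (∀ r : ℕ, r.Prime → 31 < r → r ∣ Nat.card ↥(twistedE6 K q) → r = p ∨ ∃ i, P i r) ∧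
    ∀ (i : Fin 7) (T : Finset ℕ), (∀ r ∈ T, r.Prime ∧ 31 < r ∧ P i r) → Ind ↥(twistedE6 K q) T := by
  let P : Fin 7 → ℕ → Prop := ![fun r => (r : ℤ) ∣ pv c1 q ∨ (r : ℤ) ∣ pv c2 q,
    fun r => (r : ℤ) ∣ pv c3 q ∨ (r : ℤ) ∣ pv c6 q, fun r => (r : ℤ) ∣ pv c4 q, fun r => (r : ℤ) ∣ pv c10 q,
    fun r => (r : ℤ) ∣ pv c8 q, fun r => (r : ℤ) ∣ pv c12 q, fun r => (r : ℤ) ∣ pv c18 q]
  refine ⟨P, ?_, ?_⟩
  · intro r hr _ hrG
    have h1 : r ∣ q ^ 36 * (q ^ 2 - 1) * (q ^ 5 + 1) * (q ^ 6 - 1) * (q ^ 8 - 1) * (q ^ 9 + 1) * (q ^ 12 - 1) := by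
      rw [← Cfsg.Agent.S1066.result hq hK]
      exact hrG.mul_left _
    rcases PGE6T.cover hq.two_le hr h1 with (h | h | h | h | h | h | h) | h | h | h
    · left
      rw [← hpn] at h
      exact (Nat.prime_dvd_prime_iff_eq hr hp).1 (hr.dvd_of_dvd_pow h)
    · exact Or.inr ⟨0, Or.inl h⟩
    · exact Or.inr ⟨0, Or.inr h⟩
    · exact Or.inr ⟨1, Or.inl h⟩
    · exact Or.inr ⟨2, h⟩
    · exact Or.inr ⟨1, Or.inr h⟩
    · exact Or.inr ⟨3, h⟩
    · exact Or.inr ⟨4, h⟩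
    · exact Or.inr ⟨5, h⟩
    · exact Or.inr ⟨6, h⟩
  · intro i T hT
    fin_cases i
    · exact joint2_2E6 hq hK chainA_ok hThA eigA_1 (by decide) eigA_2 (by decide) hT
    · exact joint2_2E6 hq hK chainB_ok hThB eigB_3 (by decide) eigB_6 (by decide) hT
    · exact joint_2E6 hq hK chainC_ok hThC eigC_4 (by decide) hT
    · exact joint_2E6 hq hK chainD_ok hThD eigD_10 (by decide) hT
    · exact joint_2E6 hq hK chainE_ok hThE eigE_8 (by decide) hT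
    · exact joint_2E6 hq hK chainF_ok hThF eigF_12 (by decide) hT
    · exact joint_2E6 hq hK chainG_ok hThG eigG_18 (by decide) hT

theorem row_tw_2E6 {n : ℕ} (hn : n = 64 ∨ 128 ≤ n) (hB : Bnd n ↥(twistedE6 K q)) : Row n ↥(twistedE6 K q) := by
  obtain ⟨p, f, hp, hf, hpn⟩ := id hq
  have hp := hp.nat_prime
  obtain ⟨P, h1, h2⟩ := classes_2E6 hq hK hp hpn
  have h64 : 64 ≤ n := by omega
  by_cases hn' : 128 ≤ n
  · exact row_of_cov (cov_of_classes p P h1 h2) h64 (Or.inr ⟨by norm_num, hn'⟩)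
  have hn64 : n = 64 := by omega
  subst hn64
  by_cases h31 : p ≤ 31
  · exact row_of_cov0 (cov0_of_small h31 P h1 h2) h64 le_rfl
  exfalso
  have hc := Cfsg.Agent.S1066.result hq hK
  refine false_of_kill hB hp (by omega) (by omega) (f := f) ?_ ?_
  · have h3 : p ∣ Nat.gcd 3 (q + 1) * Nat.card ↥(twistedE6 K q) := by
      rw [hc, ← hpn]
      refine Dvd.dvd.mul_right (Dvd.dvd.mul_right (Dvd.dvd.mul_right (Dvd.dvd.mul_right (Dvd.dvd.mul_right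
        (Dvd.dvd.mul_right ?_ _) _) _) _) _) _
      exact (dvd_pow_self p hf.ne').trans (dvd_pow_self _ (by norm_num))
    refine (hp.dvd_mul.1 h3).resolve_left fun h => ?_
    have := Nat.le_of_dvd (by norm_num) (h.trans (Nat.gcd_dvd_left _ _))
    omega
  · intro r hr hr3 hd
    have h3 : r ∣ Nat.gcd 3 (q + 1) * Nat.card ↥(twistedE6 K q) := by
      rw [hc, ← hpn]
      rcases hd with hd | hd
      · exact Dvd.dvd.mul_right (Dvd.dvd.mul_right (Dvd.dvd.mul_left hd _) _) _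
      · exact Dvd.dvd.mul_left hd _
    refine (hr.dvd_mul.1 h3).resolve_left fun h => ?_
    have := Nat.le_of_dvd (by norm_num) (h.trans (Nat.gcd_dvd_left _ _))
    omega

end TwE6

theorem row_2e6 {S : Type*} [Group S] (h : Lie.Iso2E6 S) {n : ℕ} (hn : n = 64 ∨ 128 ≤ n) (hB : Bnd n S) :
    Row n S := by
  obtain ⟨K, _, _, q, hq, hK, ⟨e⟩⟩ := h
  exact (row_tw_2E6 hq hK hn (bnd_congr e hB)).congr e.symm

/-! ### `³D₄(q)` -/

section TwD4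

open Cfsg.Agent.H493.PGD4T Cfsg.Agent.H129.TriD4

variable {K : Type u} [Field K] [Fintype K] {q : ℕ} (hq : IsPrimePow q) (hK : Fintype.card K = q ^ 3)

include hq hK

theorem cov_3D4 : Cov 5 ↥(twistedD4 K q) := by
  let P : Fin 5 → ℕ → Prop := ![fun r => (r : ℤ) ∣ pv c1 q, fun r => (r : ℤ) ∣ pv c2 q, fun r => (r : ℤ) ∣ pv c3 q,
    fun r => (r : ℤ) ∣ pv c6 q, fun r => (r : ℤ) ∣ pv c12 q]
  obtain ⟨p, n, hp, hn, hpn⟩ := id hq
  refine cov_of_classes (m := 5) p P ?_ ?_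
  · intro r hr _ hrG
    rw [Cfsg.Agent.S1067.result hq hK] at hrG
    rcases PGD4T.cover hq.two_le hr hrG with (h | h | h | h | h) | h
    · left
      rw [← hpn] at h
      exact (Nat.prime_dvd_prime_iff_eq hr hp.nat_prime).1 (hr.dvd_of_dvd_pow h)
    · exact Or.inr ⟨0, h⟩
    · exact Or.inr ⟨1, h⟩
    · exact Or.inr ⟨2, h⟩
    · exact Or.inr ⟨3, h⟩
    · exact Or.inr ⟨4, h⟩
  · intro i T hT
    fin_cases i
    · exact joint_3D4 hq hK chainA_ok hThA eigA_1 (by decide) hT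
    · exact joint_3D4 hq hK chainB_ok hThB eigB_2 (by decide) hT
    · exact joint_3D4 hq hK chainA_ok hThA eigA_3 (by decide) hT
    · exact joint_3D4 hq hK chainB_ok hThB eigB_6 (by decide) hT
    · exact joint_3D4 hq hK chainC_ok hThC eigC_12 (by decide) hT

end TwD4

theorem row_3d4 {S : Type*} [Group S] (h : Lie.Iso3D4 S) {n : ℕ} (hn : 64 ≤ n) : Row n S := by
  obtain ⟨K, _, _, q, hq, hK, ⟨e⟩⟩ := h
  exact row_of_cov ((cov_3D4 hq hK).congr e.symm) hn (Or.inl (by norm_num))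

/-! ### `²F₄(q)` -/

section TwF4

open Cfsg.Agent.H493.PGF4T Cfsg.Agent.H493.F4Tor Cfsg.Agent.H493.F4End

theorem cov_2F4 {K : Type u} [Field K] [Fintype K] {m : ℕ} (hK : Fintype.card K = 2 ^ (2 * m + 1)) :
    Cov0 7 ↥(twistedF4 K (2 ^ m)) := by
  let P : Fin 7 → ℕ → Prop := ![fun r => (r : ℤ) ∣ f1 (2 ^ m), fun r => (r : ℤ) ∣ f2 (2 ^ m),
    fun r => (r : ℤ) ∣ fp (2 ^ m), fun r => (r : ℤ) ∣ fm (2 ^ m), fun r => (r : ℤ) ∣ f6 (2 ^ m),
    fun r => (r : ℤ) ∣ fP (2 ^ m), fun r => (r : ℤ) ∣ fM (2 ^ m)]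
  refine cov0_of_small (m := 7) (p := 2) (by norm_num) P ?_ ?_
  · intro r hr _ hrG
    rw [Cfsg.Agent.S1068.result hK] at hrG
    rcases PGF4T.cover hr hrG with (h | h | h | h | h | h) | h | h
    · exact Or.inl h
    · exact Or.inr ⟨0, h⟩
    · exact Or.inr ⟨1, h⟩
    · exact Or.inr ⟨2, h⟩
    · exact Or.inr ⟨3, h⟩
    · exact Or.inr ⟨4, h⟩
    · exact Or.inr ⟨5, h⟩
    · exact Or.inr ⟨6, h⟩
  · intro i T hT
    fin_cases i
    · exact joint_2F4 hK chainA_ok hThA certA_f1 hT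
    · exact joint_2F4 hK chainA_ok hThA certA_f2 hT
    · exact joint_2F4 hK chainB_ok hThB certB_fp hT
    · exact joint_2F4 hK chainC_ok hThC certC_fm hT
    · exact joint_2F4 hK chainD_ok hThD certD_f6 hT
    · exact joint_2F4 hK chainEp_ok hThEp certEp_fP hT
    · exact joint_2F4 hK chainEm_ok hThEm certEm_fM hT

end TwF4

theorem row_2f4 {S : Type*} [Group S] (h : Lie.Iso2F4 S) {n : ℕ} (hn : 64 ≤ n) : Row n S := by
  obtain ⟨K, _, _, m, hm, hK, ⟨e⟩⟩ := h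
  exact row_of_cov0 ((cov_2F4 hK).congr e.symm) hn le_rfl

/-! ### `Sz(q)`, `²G₂(q)` -/

theorem row_sz {S : Type*} [Group S] (h : Lie.IsoSuzuki S) {n : ℕ} (hn : 64 ≤ n) : Row n S := by
  obtain ⟨F, _, _, m, hm, hF, ⟨e⟩⟩ := h
  obtain ⟨e'⟩ := Cfsg.Agent.OddCyclic.ClaimC.SzIso.iso hm hF
  refine Row.congr (e'.trans e.symm) ?_
  let N : Fin 3 → ℕ := ![2 ^ (2 * m + 1) - 1, 2 ^ (2 * m + 1) + 2 ^ (m + 1) + 1, 2 ^ (2 * m + 1) - 2 ^ (m + 1) + 1]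
  refine row_of_cov (cov_of_classes (m := 3) 2
    (fun i r => r ∣ N i ∧ ∃ U : Subgroup ↥(Cfsg.Sz F m), IsCyclic U ∧ Nat.card U = N i) ?_ ?_) hn (Or.inl (by norm_num))
  · intro r hr _ hrG
    by_cases h2 : r = 2
    · exact Or.inl h2
    right
    have := Fact.mk hr
    obtain ⟨x, hx⟩ := exists_prime_orderOf_dvd_card' r hrG
    have hx1 : x ≠ 1 := by
      rintro rfl
      rw [orderOf_one] at hx
      exact hr.one_lt.ne hx
    obtain ⟨U, ⟨hU, hxU⟩, -⟩ := Cfsg.Agent.S2238.result hm hF x hx1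
    rcases hU with ⟨P, rfl⟩ | ⟨hc, hN⟩
    · exfalso
      obtain ⟨k, hk⟩ := P.isPGroup' ⟨x, hxU⟩
      have h3 : x ^ 2 ^ k = 1 := congrArg Subtype.val hk
      have h4 : r ∣ 2 ^ k := hx ▸ orderOf_dvd_of_pow_eq_one h3
      exact h2 ((Nat.prime_dvd_prime_iff_eq hr Nat.prime_two).1 (hr.dvd_of_dvd_pow h4))
    · have h5 : r ∣ Nat.card U := by
        rw [← hx, ← Subgroup.orderOf_mk x hxU]
        exact orderOf_dvd_natCard _
      rcases hN with hN | hN | hN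
      · exact ⟨0, h5.trans (dvd_of_eq hN), U, hc, hN⟩
      · exact ⟨1, h5.trans (dvd_of_eq hN), U, hc, hN⟩
      · exact ⟨2, h5.trans (dvd_of_eq hN), U, hc, hN⟩
  · intro i T hT
    rcases T.eq_empty_or_nonempty with rfl | ⟨s, hs⟩
    · exact ⟨1, fun r hr => absurd hr (Finset.notMem_empty _)⟩
    obtain ⟨-, -, -, U, hU, hc⟩ := hT s hs
    obtain ⟨u, hu⟩ := hU.exists_generator
    refine ⟨u, fun r hr => ?_⟩
    rw [Subgroup.orderOf_coe, orderOf_eq_card_of_forall_mem_zpowers hu, hc]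
    exact (hT r hr).2.2.1

theorem row_ree {S : Type*} [Group S] (h : Lie.IsoRee S) {n : ℕ} (hn : 64 ≤ n) : Row n S := by
  obtain ⟨K, _, _, m, hm, hK, ⟨e⟩⟩ := h
  refine Row.congr e.symm ?_
  have : Finite ↥(Cfsg.Lie.twistedG2 K (3 ^ m)) := inferInstance
  have h1 := fun d => Cfsg.Agent.S1159.result hm hK d
  let N : Fin 4 → ℕ := ![3 ^ (2 * m + 1) - 1, (3 ^ (2 * m + 1) + 1) / 2, 3 ^ (2 * m + 1) - 3 ^ (m + 1) + 1,
    3 ^ (2 * m + 1) + 3 ^ (m + 1) + 1]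
  have hN : ∀ i, ∃ g : ↥(Cfsg.Lie.twistedG2 K (3 ^ m)), orderOf g = N i := by
    intro i
    rw [h1]
    fin_cases i
    · exact Or.inr (Or.inr (Or.inl dvd_rfl))
    · exact Or.inr (Or.inr (Or.inr (Or.inl dvd_rfl)))
    · exact Or.inr (Or.inr (Or.inr (Or.inr (Or.inl dvd_rfl))))
    · exact Or.inr (Or.inr (Or.inr (Or.inr (Or.inr dvd_rfl))))
  refine row_of_cov (cov_of_classes (m := 4) 3 (fun i r => r ∣ N i) ?_ ?_) hn (Or.inl (by norm_num))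
  · intro r hr h31 hrG
    have := Fact.mk hr
    obtain ⟨x, hx⟩ := exists_prime_orderOf_dvd_card' r hrG
    rcases (h1 r).1 ⟨x, hx⟩ with h | h | h | h | h | h
    · exact absurd h (not_dvd_of_lt h31 (by norm_num) (by norm_num))
    · exact absurd h (not_dvd_of_lt h31 (by norm_num) (by norm_num))
    · exact Or.inr ⟨0, h⟩
    · exact Or.inr ⟨1, h⟩
    · exact Or.inr ⟨2, h⟩
    · exact Or.inr ⟨3, h⟩
  · intro i T hT
    obtain ⟨g, hg⟩ := hN i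
    exact ⟨g, fun r hr => by rw [hg]; exact (hT r hr).2.2⟩

end Cfsg.Agent.H406.DP
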