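import Cfsg.Agent.H406.DP.ExcUntw
import Cfsg.Agent.H406.DP.ExcTw
import Cfsg.Agent.H406.DP.ExcE
import Cfsg.Agent.H370.DP.Def2
import Cfsg.Prelude.Def_Classification2

/-!
# Rows of the coverage table: all exceptional groups (helper406, for S3451)
-/

set_option autoImplicit false

namespace Cfsg.Agent.H406.DP

open Cfsg Cfsg.Agent.H370.DP

/-- **All exceptional groups.** -/
theorem exc_row {S : Type*} [Group S] (h : IsExceptionalLieType S) (hT : ¬ Lie.IsoTits S) {n : ℕ}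
    (hn : n = 64 ∨ 128 ≤ n) (hB : Bnd n S) : Row n S := by
  have h64 : 64 ≤ n := by omega
  rcases h with h | h | h | h | h | h | h | h | h | h | h
  · exact row_g2 h h64
  · exact row_f4 h hn hB
  · exact row_e6 h hn hB
  · exact row_e7 h hn hB
  · exact row_e8 h hn hB
  · exact row_2e6 h hn hB
  · exact row_3d4 h h64
  · exact row_sz h h64
  · exact row_ree h h64
  · exact row_2f4 h h64
  · exact absurd h hT

/-- **The exceptional rows** in the form `H826.DP.Exc3`. -/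
theorem exc3 {l : ℕ} (hl : l = 6 ∨ l = 7 ∨ l = 8) {S : Type*} [Group S] [Finite S] (h : IsExceptionalLieType S)
    (hT : ¬ Lie.IsoTits S) (hB : Bnd (2 ^ l) S) (E : Finset ℕ) (c : ℕ)
    (hE : ∀ r ∈ E, r.Prime ∧ r ∣ Nat.card S ∧ 2 ^ l < 2 * orderOf (2 : ZMod r) ∧ orderOf (2 : ZMod r) ≤ 2 ^ l)
    (hinj : Set.InjOn (fun r => orderOf (2 : ZMod r)) (E : Set ℕ)) (hc : c = 1 ∨ c = 2 ∨ c = 3) (hP : Pr 3 c S E) :
    E.card + 13 ≤ 2 ^ (l - 1) + c := by
  have h1 := exc_row h hT (n := 2 ^ l) (by rcases hl with rfl | rfl | rfl <;> norm_num) hB E c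
    (fun r hr => ⟨(hE r hr).1, (hE r hr).2.1, (hE r hr).2.2.1⟩) hinj (by omega) (by omega) hP.1
  rcases hl with rfl | rfl | rfl <;> norm_num at h1 ⊢ <;> omega

end Cfsg.Agent.H406.DP
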